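import Cfsg.Agent.RankOneIsolated.Split
import Cfsg.Prelude.Def_Solvable


/-!
A `p`-element commuting with the normaliser of a Sylow subgroup of a group with a rank one residual
is trivial.
-/

set_option autoImplicit false
set_option linter.style.haveILetI false

namespace Cfsg.Lib.RankOneIsolated

open scoped Pointwise

universe u

/-- A permutation of `p`-power order of fewer than `p` points is trivial. -/
theorem perm_eq_one {X : Type u} [Finite X] {p : ℕ} (hp : p.Prime) (hX : Nat.card X < p) (σ : Equiv.Perm X)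
    {j : ℕ} (hσ : σ ^ p ^ j = 1) : σ = 1 := by
  rw [← orderOf_eq_one_iff]
  have h1 : orderOf σ ∣ (Nat.card X).factorial := by
    rw [← Nat.card_perm]
    exact orderOf_dvd_natCard σ
  have h2 : Nat.Coprime (p ^ j) (Nat.card X).factorial :=
    ((hp.coprime_iff_not_dvd).2 fun h => by have := hp.dvd_factorial.1 h; omega).pow_left j
  exact Nat.eq_one_of_dvd_coprimes h2 (orderOf_dvd_of_pow_eq_one hσ) h1

/-- A `p`-automorphism of a group fixes every element of order dividing `p - 1` modulo a cyclic quotient. -/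
theorem mod_fixed {N : Type u} [Group N] [Finite N] {p : ℕ} (hp : p.Prime) (U : Subgroup N) [U.Normal]
    (g : N) (hgen : ∀ x, ∃ k : ℤ, (g ^ k)⁻¹ * x ∈ U) (θ : MulAut N) (hθU : ∀ x ∈ U, θ x ∈ U)
    {j : ℕ} (hθ : θ ^ p ^ j = 1) (h : N) (hh : h ^ (p - 1) ∈ U) : h⁻¹ * θ h ∈ U := by
  classical
  haveI : IsCyclic (N ⧸ U) := by
    refine ⟨⟨QuotientGroup.mk' U g, fun y => ?_⟩⟩
    obtain ⟨x, rfl⟩ := QuotientGroup.mk'_surjective U y
    obtain ⟨k, hk⟩ := hgen x
    exact ⟨k, by show (QuotientGroup.mk' U g) ^ k = _; rw [← map_zpow]; exact (QuotientGroup.eq (s := U)).2 hk⟩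
  let T := {y : N ⧸ U // y ^ (p - 1) = 1}
  have hT : Nat.card T < p := by
    haveI := Fintype.ofFinite (N ⧸ U)
    have h1 := IsCyclic.card_pow_eq_one_le (α := N ⧸ U) (n := p - 1) (by have := hp.two_le; omega)
    rw [show Nat.card T = (Finset.univ.filter fun y : N ⧸ U => y ^ (p - 1) = 1).card by
      rw [Nat.card_eq_fintype_card, Fintype.card_subtype]]
    have := hp.two_le
    omega
  let ψ : N ⧸ U →* N ⧸ U := QuotientGroup.map U U θ.toMonoidHom fun x hx => hθU x hx
  have hψm : ∀ x : N, ψ (QuotientGroup.mk' U x) = QuotientGroup.mk' U (θ x) := fun x => rfl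
  have hψb : Function.Bijective ψ := by
    rw [← Finite.surjective_iff_bijective]
    intro y
    obtain ⟨x, rfl⟩ := QuotientGroup.mk'_surjective U y
    exact ⟨QuotientGroup.mk' U (θ.symm x), by rw [hψm, MulEquiv.apply_symm_apply]⟩
  let σ : Equiv.Perm T := Equiv.ofBijective
    (fun y => ⟨ψ y.1, by rw [← map_pow, y.2, map_one]⟩)
    (Finite.injective_iff_bijective.1 fun a b e => Subtype.ext (hψb.1 (congrArg Subtype.val e)))
  have hiter : ∀ (n : ℕ) (y : T) (x : N), y.1 = QuotientGroup.mk' U x →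
      ((σ ^ n) y).1 = QuotientGroup.mk' U ((θ ^ n) x) := by
    intro n
    induction n with
    | zero => intro y x hx; simpa using hx
    | succ n ih =>
      intro y x hx
      rw [pow_succ', Equiv.Perm.mul_apply, pow_succ' θ, MulAut.mul_apply, ← hψm]
      show ψ ((σ ^ n) y).1 = _
      rw [ih y x hx]
  have hσ : σ ^ p ^ j = 1 := by
    refine Equiv.ext fun y => Subtype.ext ?_
    obtain ⟨x, hx⟩ := QuotientGroup.mk'_surjective U y.1
    rw [hiter _ y x hx.symm, hθ, MulAut.one_apply, hx]
    rfl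
  have h1 := perm_eq_one hp hT σ hσ
  let y0 : T := ⟨QuotientGroup.mk' U h, by
    rw [← map_pow]; exact (QuotientGroup.eq_one_iff _).2 hh⟩
  have h2 := congrArg Subtype.val (Equiv.congr_fun h1 y0)
  refine QuotientGroup.eq.1 ?_
  exact (h2.symm.trans (hψm h) :)

variable {Q : Type u} [Group Q] [Finite Q] {p : ℕ} [hp : Fact p.Prime]

theorem split_normalClosure_top {R : Type u} [Group R] [Finite R] {U : Sylow p R} (hU : Split p U) :
    Subgroup.normalClosure ((U : Subgroup R) : Set R) = ⊤ := by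
  set M := Subgroup.normalClosure ((U : Subgroup R) : Set R) with hM
  have hUM : (U : Subgroup R) ≤ M := Subgroup.subset_normalClosure
  obtain ⟨g, hg, hgen⟩ := hU.cyc
  haveI : IsCyclic (R ⧸ M) := by
    refine ⟨⟨QuotientGroup.mk' M g, fun y => ?_⟩⟩
    obtain ⟨x, rfl⟩ := QuotientGroup.mk'_surjective M y
    obtain ⟨V, hVx⟩ : ∃ V : M, (V : R) • U = x • U := by
      have hle : ((x • U : Sylow p R) : Subgroup R) ≤ M := by
        rw [Sylow.coe_subgroup_smul]
        rintro _ ⟨w, hw, rfl⟩
        exact (Subgroup.normalClosure_normal).conj_mem w (hUM hw) x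
      obtain ⟨V, hV⟩ := MulAction.exists_smul_eq M (U.subtype hUM) ((x • U).subtype hle)
      exact ⟨V, Sylow.ext (by
        have h2 := congrArg (fun P : Sylow p M => (P : Subgroup M).map M.subtype) hV
        simp only [Sylow.coe_subgroup_smul, Sylow.coe_subtype] at h2 ⊢
        rw [Subgroup.subgroupOf_map_subtype, inf_eq_left.2 (show MulAut.conj x • (U : Subgroup R) ≤ M from hle)] at h2
        rw [← h2]
        ext y
        simp only [Subgroup.mem_map, Subgroup.mem_pointwise_smul_iff_inv_smul_mem, MulAut.smul_def,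
          Subgroup.mem_subgroupOf, Subgroup.coe_subtype]
        constructor
        · intro hy
          have hyM : y ∈ M := by
            have h3 := hUM hy
            simp only [MulAut.inv_apply, MulAut.conj_symm_apply] at h3
            simpa [mul_assoc, hM] using (Subgroup.normalClosure_normal).conj_mem _ h3 (V : R)
          exact ⟨⟨y, hyM⟩, by simpa using hy, rfl⟩
        · rintro ⟨⟨y, hyM⟩, hy, rfl⟩
          simpa using hy)⟩
    have h1 : (V : R)⁻¹ * x ∈ Subgroup.normalizer ((U : Subgroup R) : Set R) := by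
      rw [← smul_eq_iff, mul_smul, ← hVx, inv_smul_smul]
    obtain ⟨k, hk⟩ := hgen _ h1
    refine ⟨k, ?_⟩
    show (QuotientGroup.mk' M g) ^ k = _
    rw [← map_zpow]
    refine (QuotientGroup.eq (s := M)).2 ?_
    rw [show (g ^ k)⁻¹ * x = ((g ^ k)⁻¹ * (V : R) * g ^ k) * ((g ^ k)⁻¹ * ((V : R)⁻¹ * x)) by group]
    refine mul_mem ?_ (hUM hk)
    have := (Subgroup.normalClosure_normal).conj_mem (V : R) V.2 (g ^ k)⁻¹
    rwa [inv_inv] at this
  letI : CommGroup (R ⧸ M) := IsCyclic.commGroup
  have h1 : commutator R ≤ M := by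
    rw [commutator_def, Subgroup.commutator_le]
    intro a _ b _
    rw [← QuotientGroup.eq_one_iff, ← QuotientGroup.mk'_apply, map_commutatorElement]
    exact commutatorElement_eq_one_iff_mul_comm.2 (mul_comm _ _)
  rw [hU.perf] at h1
  exact top_unique h1

theorem eq_one_of_commute (R : Subgroup Q) [R.Normal] (hQR : IsPGroup p (Q ⧸ R)) (hO : Cfsg.pCore p Q = ⊥)
    {U : Sylow p R} (hU : Split p U) (T : Sylow p Q) (hUT : (U : Subgroup R).map R.subtype ≤ T) (z : Q)
    (hzT : z ∈ T) (hz : ∀ n ∈ Subgroup.normalizer ((T : Subgroup Q) : Set Q), n * z = z * n) : z = 1 := by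
  classical
  have hTR : (T : Subgroup Q).subgroupOf R = U := by
    refine U.3 ((T.2.comap_of_injective R.subtype R.subtype_injective)) fun u hu => ?_
    exact hUT ⟨u, hu, rfl⟩
  have hTN : ∀ x : R, (x : Q) ∈ T → x ∈ (U : Subgroup R) := fun x hx => hTR ▸ hx
  have hUT' : ∀ x : R, x ∈ (U : Subgroup R) → (x : Q) ∈ T := fun x hx => hUT ⟨x, hx, rfl⟩
  have hzU : ∀ x : R, x ∈ (U : Subgroup R) → (x : Q) * z = z * x := fun x hx =>
    hz _ ((T : Subgroup Q).le_normalizer (hUT' x hx))
  set φ : MulAut R := MulAut.conjNormal z with hφ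
  have hφU : ∀ x ∈ (U : Subgroup R), φ x = x := fun x hx => Subtype.ext (by
    rw [hφ, MulAut.conjNormal_apply, ← hzU x hx, mul_inv_cancel_right])
  obtain ⟨g, hg, hgen⟩ := hU.cyc
  obtain ⟨U', hne, hcov, hfreeU, h, ha, hb, hhp, hfree⟩ := hU.pair
  -- the torus element normalises `T`
  set N := Subgroup.normalizer ((U : Subgroup R) : Set R) with hN
  have hhN : h ∈ N := smul_eq_iff.1 ha
  have hhT : ∀ t ∈ (T : Subgroup Q), (h : Q)⁻¹ * t * h ∈ (T : Subgroup Q) := by
    intro t ht
    set θ : MulAut R := MulAut.conjNormal t with hθ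
    have hθU : ∀ x, x ∈ (U : Subgroup R) → θ x ∈ (U : Subgroup R) := fun x hx => hTN _ (by
      rw [hθ, MulAut.conjNormal_apply]
      exact mul_mem (mul_mem ht (hUT' x hx)) (inv_mem ht))
    have hθU' : ∀ x, x ∈ (U : Subgroup R) → θ.symm x ∈ (U : Subgroup R) := fun x hx => hTN _ (by
      rw [hθ, MulAut.conjNormal_symm_apply]
      exact mul_mem (mul_mem (inv_mem ht) (hUT' x hx)) ht)
    have hθN : N.map (θ : R →* R) = N := by
      rw [hN, show (θ : R →* R) = θ.toMonoidHom from rfl, Subgroup.map_equiv_normalizer_eq]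
      congr 2
      ext x
      rw [Subgroup.mem_map_equiv]
      exact ⟨fun hx => by simpa using hθU _ hx, fun hx => hθU' x hx⟩
    let θN : MulAut N := (θ.subgroupMap N).trans (MulEquiv.subgroupCongr hθN)
    have hθN' : ∀ x : N, ((θN x : N) : R) = θ x := fun x => rfl
    obtain ⟨j, hj⟩ := T.2 ⟨t, ht⟩
    have hj' : θN ^ p ^ j = 1 := by
      have hit : ∀ (n : ℕ) (x : N), (((θN ^ n) x : N) : R) = (θ ^ n) x := by
        intro n
        induction n with
        | zero => intro x; rfl
        | succ n ih => intro x; rw [pow_succ', MulAut.mul_apply, hθN', ih, pow_succ', MulAut.mul_apply]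
      refine MulEquiv.ext fun x => Subtype.ext ?_
      rw [hit, hθ, ← map_pow, show t ^ p ^ j = 1 from congrArg Subtype.val hj, map_one]
      rfl
    have h1 := mod_fixed hp.out ((U : Subgroup R).subgroupOf N) ⟨g, hg⟩
      (fun x => by
        obtain ⟨k, hk⟩ := hgen x x.2
        exact ⟨k, by simpa [Subgroup.mem_subgroupOf] using hk⟩)
      θN (fun x hx => hθU _ hx) hj' ⟨h, hhN⟩ (by simpa [Subgroup.mem_subgroupOf] using hhp)
    have h2 : (((⟨h, hhN⟩ : N) : R)⁻¹ * θ h : R) ∈ (U : Subgroup R) := h1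
    have h3 := hUT' _ h2
    rw [Subgroup.coe_mul, Subgroup.coe_inv, hθ, MulAut.conjNormal_apply] at h3
    have h5 : (h : Q)⁻¹ * t * h ∈ (T : Subgroup Q) := by
      have h4 := mul_mem h3 ht
      rw [show (h : Q)⁻¹ * (t * h * t⁻¹) * t = (h : Q)⁻¹ * t * h by group] at h4
      exact h4
    exact h5
  have hhnorm : (h : Q) ∈ Subgroup.normalizer ((T : Subgroup Q) : Set Q) := by
    have hle : (T : Subgroup Q).map (MulAut.conj (h : Q)⁻¹).toMonoidHom ≤ T := by
      rintro _ ⟨s, hs, rfl⟩
      simpa using hhT s hs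
    have he := Subgroup.eq_of_le_of_card_ge hle (by
      rw [Subgroup.card_map_of_injective (f := (MulAut.conj (h : Q)⁻¹).toMonoidHom) (MulAut.conj _).injective])
    have h1 : ((h : Q)⁻¹) ∈ Subgroup.normalizer ((T : Subgroup Q) : Set Q) := by
      rw [Subgroup.mem_normalizer_iff]
      intro s
      conv_rhs => rw [← he]
      simp [Subgroup.mem_map]
    simpa using inv_mem h1
  have hzh : (h : Q) * z = z * h := hz _ hhnorm
  have hφh : φ h = h := Subtype.ext (by rw [hφ, MulAut.conjNormal_apply, ← hzh, mul_inv_cancel_right])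
  -- `z` fixes every Sylow subgroup of `R`
  have hφU' : φ • U = U := by
    refine Sylow.ext ?_
    rw [Sylow.pointwise_smul_def]
    ext x
    rw [Subgroup.mem_pointwise_smul_iff_inv_smul_mem, MulAut.smul_def]
    constructor
    · intro hx
      have h1 := hφU _ hx
      rw [MulAut.apply_inv_self] at h1
      exact h1.symm ▸ hx
    · intro hx
      rwa [show φ⁻¹ x = x by conv_lhs => rw [← hφU x hx]; rw [MulAut.inv_apply_self]]
  have hsm : ∀ (x : R) (V : Sylow p R), φ • (x • V) = φ x • (φ • V) := fun x V => by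
    simp only [Sylow.smul_def]
    rw [smul_smul, smul_smul]
    congr 1
    exact MulEquiv.ext fun y => by simp [MulAut.mul_apply, map_mul, map_inv]
  obtain ⟨u, hu, hue⟩ := hcov (φ • U') (fun e => hne (by
    rw [← hφU'] at e
    exact smul_left_cancel φ e))
  have hu1 : u = 1 := by
    have h1 : h • (φ • U') = φ • U' := by
      conv_rhs => rw [← hb, hsm, hφh]
    rw [← hue, smul_smul] at h1
    have h2 : (u⁻¹ * (h * u * h⁻¹)) • U' = U' := by
      have h3 : (h * u * h⁻¹) • U' = u • U' := by
        conv_lhs => rw [mul_smul, show h⁻¹ • U' = U' from inv_smul_eq_iff.2 hb.symm]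
        exact h1
      rw [mul_smul, h3, inv_smul_smul]
    have hm : h * u * h⁻¹ ∈ (U : Subgroup R) := (Subgroup.mem_normalizer_iff.1 hhN u).1 hu
    have h4 := hfreeU _ (mul_mem (inv_mem hu) hm) h2
    rw [inv_mul_eq_one] at h4
    refine hfree u hu ?_
    conv_rhs => rw [h4]
    group
  rw [hu1, one_smul] at hue
  have hall : ∀ V : Sylow p R, φ • V = V := by
    intro V
    by_cases hV : V = U
    · rw [hV, hφU']
    obtain ⟨v, hv, rfl⟩ := hcov V hV
    rw [hsm, hφU v hv, ← hue]
  have hfixall : ∀ c : R, (∀ V : Sylow p R, c • V = V) → ∀ V : Sylow p R, c ∈ (V : Subgroup R) → c = 1 := by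
    intro c hc V hcV
    obtain ⟨x, rfl⟩ := MulAction.exists_smul_eq R U V
    rw [Sylow.coe_subgroup_smul, Subgroup.mem_pointwise_smul_iff_inv_smul_mem] at hcV
    have h1 : ((x⁻¹ * c * x)) • U' = U' := by
      rw [mul_smul, mul_smul, hc, inv_smul_smul]
    have hmem : x⁻¹ * c * x ∈ (U : Subgroup R) := by simpa [MulAut.smul_def] using hcV
    have h2 := hfreeU _ hmem h1
    rw [mul_eq_one_iff_eq_inv, inv_mul_eq_iff_eq_mul, mul_inv_cancel] at h2
    exact h2
  have hcent : ∀ V : Sylow p R, ∀ v ∈ (V : Subgroup R), φ v = v := by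
    intro V v hv
    have h1 : φ v ∈ (V : Subgroup R) := by
      have h2 : φ • v ∈ ((φ • V : Sylow p R) : Subgroup R) := by
        rw [Sylow.pointwise_smul_def]
        exact Subgroup.smul_mem_pointwise_smul _ _ _ hv
      rw [hall] at h2
      exact h2
    have h3 : ∀ W : Sylow p R, φ v • W = v • W := fun W => by
      conv_lhs => rw [← hall W, ← hsm, hall]
    have h4 := hfixall (v⁻¹ * φ v) (fun W => by rw [mul_smul, h3, inv_smul_smul]) V
      (mul_mem (inv_mem hv) h1)
    exact (inv_mul_eq_one.1 h4).symm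
  -- so it centralises `R`
  have hzR : z ∈ Subgroup.centralizer (R : Set Q) := by
    rw [Subgroup.mem_centralizer_iff]
    intro r hr
    let K : Subgroup R :=
      { carrier := {x | φ x = x}
        mul_mem' := fun {a b} ha hb => by
          show φ (a * b) = a * b
          rw [map_mul, show φ a = a from ha, show φ b = b from hb]
        one_mem' := map_one φ
        inv_mem' := fun {a} ha => by
          show φ a⁻¹ = a⁻¹
          rw [map_inv, show φ a = a from ha] }
    have hK : Subgroup.normalClosure ((U : Subgroup R) : Set R) ≤ K := by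
      rw [Subgroup.normalClosure, Subgroup.closure_le]
      intro x hx
      obtain ⟨y, hy, hxy⟩ := Group.mem_conjugatesOfSet_iff.1 hx
      obtain ⟨c, rfl⟩ := isConj_iff.1 hxy
      refine hcent (c • U) _ ?_
      rw [Sylow.coe_subgroup_smul]
      exact Subgroup.smul_mem_pointwise_smul y (MulAut.conj c) _ hy
    rw [split_normalClosure_top hU] at hK
    have h1 := congrArg Subtype.val (hK (Subgroup.mem_top ⟨r, hr⟩))
    rw [hφ, MulAut.conjNormal_apply] at h1
    calc r * z = z * r * z⁻¹ * z := by rw [show z * r * z⁻¹ = r from h1]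
      _ = z * r := by group
  set C := Subgroup.centralizer (R : Set Q) with hC
  haveI hCn : C.Normal := Subgroup.normal_centralizer
  set π : C →* Q ⧸ R := (QuotientGroup.mk' R).comp C.subtype with hπ
  have hk : π.ker ≤ Subgroup.center C := fun x hx => by
    rw [Subgroup.mem_center_iff]
    intro y
    rw [MonoidHom.mem_ker, hπ, MonoidHom.comp_apply, QuotientGroup.mk'_apply, QuotientGroup.eq_one_iff] at hx
    exact Subtype.ext ((Subgroup.mem_centralizer_iff.1 y.2 x.1 hx).symm)
  haveI : Group.IsNilpotent π.range := (hQR.to_subgroup π.range).isNilpotent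
  haveI : Group.IsNilpotent C := Subgroup.isNilpotent_of_ker_le_center π.rangeRestrict
    (by rw [MonoidHom.ker_rangeRestrict]; exact hk)
  obtain ⟨j, hj⟩ := T.2 ⟨z, hzT⟩
  have hzC : z ∈ C := hzR
  have hzp : IsPGroup p (Subgroup.zpowers (⟨z, hzC⟩ : C)) := by
    rintro ⟨x, k, rfl⟩
    refine ⟨j, Subtype.ext (Subtype.ext ?_)⟩
    have hj' : z ^ p ^ j = 1 := congrArg Subtype.val hj
    simp only [SubmonoidClass.coe_pow, OneMemClass.coe_one, SubgroupClass.coe_zpow]
    rw [← zpow_natCast, ← zpow_mul, mul_comm, zpow_mul, zpow_natCast, hj', one_zpow]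
  obtain ⟨P, hP⟩ := hzp.exists_le_sylow
  haveI hPn : (P : Subgroup C).Normal :=
    inferInstance
  have hPc : (P : Subgroup C).Characteristic := P.characteristic_of_normal hPn
  have hle : (P : Subgroup C).map C.subtype ≤ Cfsg.pCore p Q := by
    refine le_sSup ⟨?_, P.2.map C.subtype⟩
    exact ConjAct.normal_of_characteristic_of_normal
  have h1 : z ∈ Cfsg.pCore p Q := hle ⟨⟨z, hzC⟩, hP (Subgroup.mem_zpowers _), rfl⟩
  rw [hO] at h1
  exact Subgroup.mem_bot.1 h1

end Cfsg.Lib.RankOneIsolated
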