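import Cfsg.Agent.RankOneIsolated.Split
import Cfsg.Agent.Known.OrthMinDegree.Odd.Basic

/-!
`SL₂` and `PSL₂` in characteristic `p ≥ 5` have a split Sylow subgroup with a free torus element.
-/

set_option autoImplicit false

namespace Cfsg.Lib.RankOneIsolated

open Matrix

variable {F : Type} [Field F]

theorem slTwo_det (g : SpecialLinearGroup (Fin 2) F) : g.1 0 0 * g.1 1 1 - g.1 0 1 * g.1 1 0 = 1 := by
  rw [← Matrix.det_fin_two, g.2]

/-- The upper triangular matrices. -/
def slTwoBorel (F : Type) [Field F] : Subgroup (SpecialLinearGroup (Fin 2) F) where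
  carrier := {g | g.1 1 0 = 0}
  mul_mem' := fun {g h} hg hh => by
    show (g * h).1 1 0 = 0
    simp [mul_apply, show g.1 1 0 = 0 from hg, show h.1 1 0 = 0 from hh]
  one_mem' := by simp
  inv_mem' := fun {g} hg => by
    show (g⁻¹).1 1 0 = 0
    simp [adjugate_fin_two, show g.1 1 0 = 0 from hg]

/-- The upper unitriangular matrices. -/
def slTwoUni (F : Type) [Field F] : Subgroup (SpecialLinearGroup (Fin 2) F) where
  carrier := {g | g.1 1 0 = 0 ∧ g.1 0 0 = 1}
  mul_mem' := fun {g h} hg hh => by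
    obtain ⟨a1, a2⟩ := (hg : g.1 1 0 = 0 ∧ g.1 0 0 = 1)
    obtain ⟨b1, b2⟩ := (hh : h.1 1 0 = 0 ∧ h.1 0 0 = 1)
    show (g * h).1 1 0 = 0 ∧ (g * h).1 0 0 = 1
    simp [mul_apply, a1, a2, b1, b2]
  one_mem' := by simp
  inv_mem' := fun {g} hg => by
    have := slTwo_det g
    obtain ⟨a1, a2⟩ := (hg : g.1 1 0 = 0 ∧ g.1 0 0 = 1)
    show (g⁻¹).1 1 0 = 0 ∧ (g⁻¹).1 0 0 = 1
    simp [a1, a2] at this
    simp [adjugate_fin_two, a1, this]

theorem mem_slTwoBorel (g : SpecialLinearGroup (Fin 2) F) : g ∈ slTwoBorel F ↔ g.1 1 0 = 0 := Iff.rfl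

theorem mem_slTwoUni (g : SpecialLinearGroup (Fin 2) F) : g ∈ slTwoUni F ↔ g.1 1 0 = 0 ∧ g.1 0 0 = 1 :=
  Iff.rfl

variable [Fintype F]

theorem split_slTwo {p : ℕ} (hp : 5 ≤ p) [Fact p.Prime] [CharP F p] :
    ∃ V : Sylow p (SpecialLinearGroup (Fin 2) F), Split p V := by
  classical
  have hpp : p.Prime := Fact.out
  have hq : 4 ≤ Fintype.card F := by
    obtain ⟨n, -, hn⟩ := FiniteField.card F p
    rw [hn]
    exact le_trans (by omega) (Nat.le_self_pow n.ne_zero p)
  have hsmall : ∀ n : ℕ, 0 < n → n < 5 → (n : F) ≠ 0 := fun n h0 h5 h => by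
    have := Nat.le_of_dvd h0 ((CharP.cast_eq_zero_iff F p n).1 h)
    omega
  have h2 : (2 : F) ≠ 0 := by simpa using hsmall 2 (by norm_num) (by norm_num)
  let B := slTwoBorel F
  let a : SpecialLinearGroup (Fin 2) F ⧸ B := QuotientGroup.mk 1
  obtain ⟨w, hw⟩ : ∃ w : SpecialLinearGroup (Fin 2) F, w.1 = !![0, -1; 1, 0] :=
    ⟨⟨_, by simp [det_fin_two]⟩, rfl⟩
  obtain ⟨hh, hhe⟩ : ∃ hh : SpecialLinearGroup (Fin 2) F, hh.1 = !![2, 0; 0, 2⁻¹] :=
    ⟨⟨_, by simp [det_fin_two, h2]⟩, rfl⟩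
  have hstab : MulAction.stabilizer (SpecialLinearGroup (Fin 2) F) a = B := MulAction.stabilizer_quotient B
  let d : MulAction.stabilizer (SpecialLinearGroup (Fin 2) F) a →* Fˣ :=
    MonoidHom.mk' (fun x => ⟨x.1.1 0 0, x.1.1 1 1, by
        have h1 := slTwo_det x.1
        have h0 : x.1.1 1 0 = 0 := hstab.le x.2
        rw [h0] at h1
        linear_combination h1, by
        have h1 := slTwo_det x.1
        have h0 : x.1.1 1 0 = 0 := hstab.le x.2
        rw [h0] at h1
        linear_combination h1⟩) fun x y => Units.ext (by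
      have h0 : y.1.1 1 0 = 0 := hstab.le y.2
      simp [mul_apply, h0])
  have hUB : slTwoUni F ≤ B := fun g hg => hg.1
  refine build (F := F) a (QuotientGroup.mk w) ?_ (slTwoUni F) ?_ ?_ d ?_ (hUB.trans hstab.ge) ?_ ?_ hh ?_ ?_ ?_
    ?_ (Cfsg.Lib.OrthMinDeg.perf_small hq 2)
  · intro h
    have := (QuotientGroup.eq.1 h : w⁻¹ * 1 ∈ B)
    rw [mem_slTwoBorel] at this
    simp [hw, adjugate_fin_two] at this
  · rw [Subgroup.ne_bot_iff_exists_ne_one]
    obtain ⟨v, hv⟩ : ∃ v : SpecialLinearGroup (Fin 2) F, v.1 = !![1, 1; 0, 1] :=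
      ⟨⟨_, by simp [det_fin_two]⟩, rfl⟩
    refine ⟨⟨v, by simp [mem_slTwoUni, hv]⟩, fun h => ?_⟩
    have := congrArg (fun x => ((x : slTwoUni F) : SpecialLinearGroup (Fin 2) F).1 0 1) h
    simp [hv] at this
  · rintro ⟨g, hg0, hg1⟩
    refine ⟨1, Subtype.ext (Subtype.ext ?_)⟩
    have hd := slTwo_det g
    rw [hg0, hg1] at hd
    have key : ∀ n : ℕ, g.1 ^ n = !![1, (n : F) * g.1 0 1; 0, 1] := by
      intro n
      induction n with
      | zero => simp [Matrix.one_fin_two]
      | succ n ih =>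
        rw [pow_succ, ih]
        have h11 : g.1 1 1 = 1 := by linear_combination hd
        ext i j
        fin_cases i <;> fin_cases j <;> simp [mul_apply, hg0, hg1, h11]
        ring
    simp [key, Matrix.one_fin_two]
  · intro x
    rw [Units.ext_iff, mem_slTwoUni]
    exact ⟨fun h => ⟨hstab.le x.2, h⟩, fun h => h.2⟩
  · intro k hk hk1 x hx
    induction x using QuotientGroup.induction_on with
    | H g => ?_
    have h1 : (k * g)⁻¹ * g ∈ B := QuotientGroup.eq.1 hx
    have h2 := slTwo_det k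
    rw [hk.1, hk.2] at h2
    have h11 : k.1 1 1 = 1 := by linear_combination h2
    have h01 : k.1 0 1 ≠ 0 := fun h => hk1 (by
      ext i j
      fin_cases i <;> fin_cases j <;> simp [hk.1, hk.2, h, h11])
    rw [mem_slTwoBorel] at h1
    simp [adjugate_fin_two, mul_apply, hk.1, hk.2, h11] at h1
    have h3 : k.1 0 1 * (g.1 1 0 * g.1 1 0) = 0 := by linear_combination h1
    refine QuotientGroup.eq.2 ?_
    rw [mem_slTwoBorel]
    have h4 : g.1 1 0 = 0 := by simpa [h01] using h3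
    simp [adjugate_fin_two, h4]
  · intro x hx
    induction x using QuotientGroup.induction_on with
    | H g => ?_
    have hc : g.1 1 0 ≠ 0 := fun h => hx (QuotientGroup.eq.2 (by
      rw [mem_slTwoBorel]; simp [adjugate_fin_two, h]))
    obtain ⟨v, hv⟩ : ∃ v : SpecialLinearGroup (Fin 2) F, v.1 = !![1, g.1 0 0 / g.1 1 0; 0, 1] :=
      ⟨⟨_, by simp [det_fin_two]⟩, rfl⟩
    refine ⟨v, by simp [mem_slTwoUni, hv], ?_⟩
    refine QuotientGroup.eq.2 ?_
    rw [mem_slTwoBorel]
    simp [hw, hv, smul_eq_mul, adjugate_fin_two, mul_apply]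
    field_simp
    ring
  · refine QuotientGroup.eq.2 ?_
    rw [mem_slTwoBorel]
    simp [hhe, smul_eq_mul, adjugate_fin_two]
  · refine QuotientGroup.eq.2 ?_
    rw [mem_slTwoBorel]
    simp [hhe, hw, smul_eq_mul, adjugate_fin_two, mul_apply]
  · have key : ∀ n : ℕ, hh.1 ^ n = !![2 ^ n, 0; 0, (2⁻¹) ^ n] := by
      intro n
      induction n with
      | zero => simp [Matrix.one_fin_two]
      | succ n ih =>
        rw [pow_succ, ih]
        ext i j
        fin_cases i <;> fin_cases j <;> simp [hhe, mul_apply, pow_succ]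
    have h1 : hh ^ (p - 1) = 1 := Subtype.ext (by
      show hh.1 ^ (p - 1) = (1 : Matrix (Fin 2) (Fin 2) F)
      rw [key, inv_pow, two_pow hpp (by omega), inv_one]
      exact Matrix.one_fin_two.symm)
    rw [h1]
    exact one_mem _
  · intro u hu he
    have h0 := congrArg (fun x : SpecialLinearGroup (Fin 2) F => x.1 0 1) he
    have h1 := slTwo_det u
    rw [hu.1, hu.2] at h1
    have h11 : u.1 1 1 = 1 := by linear_combination h1
    simp [hhe, mul_apply, hu.2] at h0
    have h3 : (3 : F) ≠ 0 := by simpa using hsmall 3 (by norm_num) (by norm_num)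
    field_simp at h0
    have h01 : u.1 0 1 = 0 := by
      have : (3 : F) * u.1 0 1 = 0 := by linear_combination h0
      simpa [h3] using this
    ext i j
    fin_cases i <;> fin_cases j <;> simp [hu.1, hu.2, h01, h11]

theorem split_pslTwo {p : ℕ} (hp : 5 ≤ p) [Fact p.Prime] [CharP F p] :
    ∃ V : Sylow p (ProjectiveSpecialLinearGroup (Fin 2) F), Split p V := by
  obtain ⟨U, hU⟩ := split_slTwo (F := F) hp
  refine hU.map (QuotientGroup.mk' _) (QuotientGroup.mk'_surjective _) (QuotientGroup.ker_mk' _).le ?_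
  have : NeZero (max (Fintype.card (Fin 2)) 1) := ⟨by simp⟩
  rw [QuotientGroup.ker_mk', Nat.card_congr
    (SpecialLinearGroup.center_equiv_rootsOfUnity (n := Fin 2) (R := F)).toEquiv]
  intro h
  have h1 := card_rootsOfUnity F (max (Fintype.card (Fin 2)) 1)
  have h2 := Nat.le_of_dvd Nat.card_pos h
  simp at h1 h2
  omega

end Cfsg.Lib.RankOneIsolated
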