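import Cfsg.Agent.RankOneIsolated.Split
import Cfsg.Agent.Known.PSUThree.Main

/-!
`SU₃` and `PSU₃` in characteristic `p ≥ 5` have a split Sylow subgroup with a free torus element.
-/

set_option autoImplicit false
set_option linter.style.haveILetI false
set_option maxHeartbeats 1000000

namespace Cfsg.Lib.RankOneIsolated

open Cfsg.Lib.Classical Cfsg.Lib.Components.UnitaryThree Cfsg.Lib.Known.PSUThree

section Frame

variable {F : Type} [Field F] {V : Type} [AddCommGroup V] [Module F V] {H : HermSpace F V}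

/-- The frame with the two isotropic vectors exchanged. -/
def flipFrame (B : Frame H) : Frame H :=
  ⟨B.f, B.w, B.e, B.ff, B.ee, B.fe, B.ww, B.wf, B.we⟩

variable [Finite F] [FiniteDimensional F V] (hd : Module.finrank F V = 3)
include hd

theorem exists_torus (B : Frame H) (t : F) (ht : t ≠ 0) (hσ : H.σ t = t) :
    ∃ g : H.SIsom, g.1.1 B.e = t • B.e ∧ g.1.1 B.w = B.w ∧ g.1.1 B.f = t⁻¹ • B.f := by
  let T : V →ₗ[F] V :=
    { toFun := fun x => (t * H.h x B.f) • B.e + H.h x B.w • B.w + (t⁻¹ * H.h x B.e) • B.f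
      map_add' := fun x y => by simp only [H.add_left]; module
      map_smul' := fun c x => by simp only [H.smul_left, RingHom.id_apply]; module }
  have hT : ∀ x, T x = (t * H.h x B.f) • B.e + H.h x B.w • B.w + (t⁻¹ * H.h x B.e) • B.f := fun x => rfl
  have hform : ∀ x y, H.h (T x) (T y) = H.h x y := fun x y => by
    conv_rhs => rw [decomp hd B x, decomp hd B y]
    simp [hT, H.add_left, H.add_right, H.smul_left, H.smul_right, B.ee, B.ew, B.ef, B.we, B.ww, B.wf, B.fe,
      B.fw, B.ff, hσ]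
    field_simp
  have hinj : Function.Injective T := by
    rw [← LinearMap.ker_eq_bot, LinearMap.ker_eq_bot']
    intro x hx
    have h1 := fun y => hform x y
    simp only [hx, H.zero_left] at h1
    refine H.nondeg x fun y => ?_
    rw [H.symm, ← h1 y, map_zero]
  let E : V ≃ₗ[F] V := LinearEquiv.ofInjectiveEndo T hinj
  have hE : ∀ x, E x = T x := fun x => rfl
  have he : T B.e = t • B.e := by simp [hT, B.ee, B.ew, B.ef]
  have hw : T B.w = B.w := by simp [hT, B.we, B.ww, B.wf]
  have hf : T B.f = t⁻¹ • B.f := by simp [hT, B.fe, B.fw, B.ff]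
  refine ⟨⟨⟨E, hform⟩, ?_⟩, he, hw, hf⟩
  rw [HermSpace.mem_SIsom]
  refine Units.ext ?_
  rw [LinearEquiv.coe_det, Units.val_one, show (E : V →ₗ[F] V) = T from rfl, det_frame hd B T, he, hw, hf]
  simp [Matrix.det_fin_three, H.smul_left, B.ee, B.ew, B.ef, B.we, B.ww, B.wf, B.fe, B.fw, B.ff, ht]

end Frame

variable {F : Type} [Field F] [Fintype F] {q : ℕ}

theorem split_siThree {p : ℕ} (hp : 5 ≤ p) [Fact p.Prime] [CharP F p] (hF : Fintype.card F = q ^ 2)
    (hq : 3 ≤ q) : ∃ V : Sylow p (stdHerm 3 hF).SIsom, Split p V := by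
  classical
  have hpp : p.Prime := Fact.out
  set H := stdHerm 3 hF with hH
  have hd : Module.finrank F (Fin 3 → F) = 3 := Module.finrank_fin_fun F
  haveI : Finite H.SIsom := finite_sisom
  haveI := H.isoPt_pretransitive
  have hpts := card_isoPt_std hF (show 2 ≤ q by omega)
  haveI : Nonempty H.IsoPt := (Nat.card_pos_iff.1 (by rw [hpts]; exact Nat.succ_pos _)).1
  haveI : Finite H.IsoPt := finite_isoPt
  obtain ⟨B, -⟩ := exists_frame_pt hd (Classical.arbitrary H.IsoPt)
  have hmem : ∀ x : MulAction.stabilizer H.SIsom (pt B), x.1 ∈ stE B := fun x => x.2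
  let d : MulAction.stabilizer H.SIsom (pt B) →* Fˣ :=
    MonoidHom.mk' (fun x => Units.mk0 (ea B x.1) (coords hd B (hmem x)).2.1)
      fun x y => Units.ext (ea_mul hd B (hmem x) (hmem y))
  have hd1 : ∀ x : MulAction.stabilizer H.SIsom (pt B), d x = 1 ↔ x.1 ∈ fixE B := fun x => by
    rw [Units.ext_iff]
    show ea B x.1 = 1 ↔ x.1.1.1 B.e = B.e
    constructor
    · intro h
      rw [(coords hd B (hmem x)).1, h, one_smul]
    · intro h
      rw [ea, h, B.ef]
  set b := pt (flipFrame B) with hb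
  have hab : b ≠ pt B := fun h => by
    obtain ⟨c, -, hc⟩ := pt_eq_iff.1 h
    have := B.fe
    rw [show B.f = c • B.e from hc, H.smul_left, B.ee, mul_zero] at this
    exact zero_ne_one this
  have hfix : ∀ k ∈ fixE B, k ≠ 1 → ∀ x : H.IsoPt, k • x = x → x = pt B :=
    fun k hk hk1 x hx => fix_pt hd B hk hk1 hx
  have hcst : Nat.card (stE B) = q ^ 3 * (q ^ 2 - 1) := by
    have h1 := (stE B).card_mul_index
    rw [stE, MulAction.index_stabilizer_of_transitive, hpts, card_SIsom_std hF hq] at h1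
    rw [stE]
    refine Nat.eq_of_mul_eq_mul_right (show 0 < q ^ 3 + 1 from Nat.succ_pos _) ?_
    rw [h1]
    ring
  have hU : q ^ 3 ≤ Nat.card (fixE B) := by
    have h1 := Subgroup.card_mul_index d.ker
    have h2 : Nat.card d.ker = Nat.card (fixE B) := by
      rw [show d.ker = (fixE B).subgroupOf (MulAction.stabilizer H.SIsom (pt B)) from Subgroup.ext fun x => by
        rw [MonoidHom.mem_ker, hd1, Subgroup.mem_subgroupOf]]
      exact Nat.card_congr (Subgroup.subgroupOfEquivOfLe (fixE_le_stE B)).toEquiv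
    have h3 : d.ker.index ≤ q ^ 2 - 1 := by
      rw [Subgroup.index_ker]
      refine (Nat.card_le_card_of_injective _ Subtype.val_injective).trans ?_
      rw [Nat.card_units, Nat.card_eq_fintype_card, hF]
    have h4 : Nat.card (MulAction.stabilizer H.SIsom (pt B)) = q ^ 3 * (q ^ 2 - 1) := hcst
    rw [h2, h4] at h1
    have h5 : q ^ 3 * (q ^ 2 - 1) ≤ Nat.card (fixE B) * (q ^ 2 - 1) :=
      h1 ▸ Nat.mul_le_mul_left _ h3
    refine Nat.le_of_mul_le_mul_right h5 ?_
    have : 9 ≤ q ^ 2 := by nlinarith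
    omega
  let φ : fixE B → {x : H.IsoPt // x ≠ pt B} := fun u => ⟨u.1 • b, fun h => hab (by
    rw [← inv_smul_smul u.1 b, h]
    exact fixE_le_stE B (inv_mem u.2))⟩
  have hφ : Function.Surjective φ := by
    have hinj : Function.Injective φ := fun u v e => by
      by_contra hne
      refine hab (hfix (v.1⁻¹ * u.1) (mul_mem (inv_mem v.2) u.2)
        (fun h => hne (Subtype.ext (inv_mul_eq_one.1 h).symm)) b ?_)
      rw [mul_smul, show u.1 • b = v.1 • b from congrArg Subtype.val e, inv_smul_smul]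
    refine (hinj.bijective_of_nat_card_le ?_).2
    haveI := Fintype.ofFinite H.IsoPt
    rw [Nat.card_eq_fintype_card, Fintype.card_subtype_compl, Fintype.card_subtype_eq,
      ← Nat.card_eq_fintype_card, hpts]
    omega
  have h2 : ∀ n : ℕ, 0 < n → n < 5 → (n : F) ≠ 0 := fun n h0 h5 h => by
    have := Nat.le_of_dvd h0 ((CharP.cast_eq_zero_iff F p n).1 h)
    omega
  have h20 : (2 : F) ≠ 0 := by simpa using h2 2 (by norm_num) (by norm_num)
  obtain ⟨hh, he, hw, hf⟩ := exists_torus hd B 2 h20 (map_ofNat H.σ 2)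
  have hha : hh ∈ stE B := mem_stE.2 ⟨2, he⟩
  refine build (F := F) (pt B) b hab (fixE B) ?_ (fixE_pgroup hd B p) d hd1 (fixE_le_stE B) hfix
    (fun x hx => ?_) hh hha ?_ ?_ ?_ ?_
  · intro h
    rw [h, Subgroup.card_bot] at hU
    have : 8 ≤ q ^ 3 := le_trans (by norm_num) (Nat.pow_le_pow_left (show 2 ≤ q by omega) 3)
    omega
  · obtain ⟨u, hu⟩ := hφ ⟨x, hx⟩
    exact ⟨u.1, u.2, congrArg Subtype.val hu⟩
  · rw [hb, pt, HermSpace.smul_isoMk, HermSpace.isoMk_eq_iff]
    exact ⟨2⁻¹, hf.symm⟩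
  · have key : ∀ n : ℕ, (hh ^ n).1.1 B.e = (2 : F) ^ n • B.e := by
      intro n
      induction n with
      | zero => simp
      | succ n ih => rw [pow_succ, H.smul_mul_apply, he, map_smul, ih, smul_smul, pow_succ']
    show (hh ^ (p - 1)).1.1 B.e = B.e
    rw [key, two_pow hpp (by omega), one_smul]
  · intro u hu hcomm
    have hc : hh * u * hh⁻¹ = u := by rw [hcomm, mul_inv_cancel_right]
    have hea : ea B hh = 2 := by rw [ea, he, H.smul_left, B.ef, mul_one]
    have hed : ed B hh = 1 := by rw [ed, hw, B.ww]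
    have h1 := conj_eb hd B hha hu
    rw [hc, hea, hed, one_mul] at h1
    have hb0 : eb B u = 0 := by linear_combination -h1
    have h3 := (conj_ec hd B hha (mem_root_of_eb hd B hu hb0)).2
    rw [hc, hea, map_ofNat] at h3
    have h30 : (3 : F) ≠ 0 := by simpa using h2 3 (by norm_num) (by norm_num)
    have hc0 : ec B u = 0 := by
      have : (3 : F) * ec B u = 0 := by linear_combination -h3
      exact (mul_eq_zero.1 this).resolve_left h30
    exact ext_fixE hd B hu (one_mem _) (hb0.trans (eb_one B).1.symm) (hc0.trans (eb_one B).2.symm)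
  · exact H.commutator_SIsom (Or.inr ⟨hd, by rw [hH, stdHerm_q]; exact hq⟩)

theorem split_suThree {p : ℕ} (hp : 5 ≤ p) [Fact p.Prime] [CharP F p] (hF : Fintype.card F = q ^ 2)
    (hq : 3 ≤ q) : ∃ V : Sylow p (Cfsg.SU 3 F q), Split p V := by
  haveI : Finite (stdHerm 3 hF).SIsom := finite_sisom
  obtain ⟨U, hU⟩ := split_siThree hp hF hq
  refine hU.map (suEquiv 3 hF).toMonoidHom (suEquiv 3 hF).surjective ?_ ?_
  · rw [(MonoidHom.ker_eq_bot_iff _).2 (suEquiv 3 hF).injective]; exact bot_le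
  · rw [(MonoidHom.ker_eq_bot_iff _).2 (suEquiv 3 hF).injective, Subgroup.card_bot, Nat.dvd_one]
    omega

theorem split_psuThree {p : ℕ} (hp : 5 ≤ p) [Fact p.Prime] [CharP F p] (hF : Fintype.card F = q ^ 2)
    (hq : 3 ≤ q) : ∃ V : Sylow p (Cfsg.PSU 3 F q), Split p V := by
  obtain ⟨U, hU⟩ := split_suThree hp hF hq
  refine hU.map (QuotientGroup.mk' _) (QuotientGroup.mk'_surjective _) (QuotientGroup.ker_mk' _).le ?_
  rw [QuotientGroup.ker_mk', card_center_SU hF (by norm_num)]
  intro h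
  have := Nat.le_of_dvd (Nat.gcd_pos_of_pos_left _ (by norm_num)) h
  have := Nat.gcd_le_left (q + 1) (show 0 < 3 by norm_num)
  omega

end Cfsg.Lib.RankOneIsolated
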