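import Mathlib

/-!
Groups with a split Sylow `p`-subgroup and a torus element moving it freely: the rank one groups of
characteristic `p ≥ 5`.
-/

set_option autoImplicit false
set_option linter.style.haveILetI false

namespace Cfsg.Lib.RankOneIsolated

open scoped Pointwise

universe u v w

variable {p : ℕ}

/-- A Sylow subgroup regular on the others, with cyclic torus and a free element of small order. -/
structure Split (p : ℕ) {R : Type u} [Group R] (U : Sylow p R) : Prop where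
  cyc : ∃ g ∈ Subgroup.normalizer ((U : Subgroup R) : Set R),
    ∀ x ∈ Subgroup.normalizer ((U : Subgroup R) : Set R), ∃ k : ℤ, (g ^ k)⁻¹ * x ∈ (U : Subgroup R)
  pair : ∃ U' : Sylow p R, U' ≠ U ∧ (∀ V : Sylow p R, V ≠ U → ∃ u ∈ (U : Subgroup R), u • U' = V) ∧
    (∀ u ∈ (U : Subgroup R), u • U' = U' → u = 1) ∧
    ∃ h : R, h • U = U ∧ h • U' = U' ∧ h ^ (p - 1) ∈ (U : Subgroup R) ∧
      ∀ u ∈ (U : Subgroup R), h * u = u * h → u = 1
  perf : commutator R = ⊤

theorem smul_eq_iff {R : Type u} [Group R] {g : R} {P : Sylow p R} :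
    g • P = P ↔ g ∈ Subgroup.normalizer ((P : Subgroup R) : Set R) :=
  Sylow.smul_eq_iff_mem_normalizer

theorem two_pow {F : Type w} [Field F] {p : ℕ} (hp : p.Prime) [CharP F p] (hp2 : p ≠ 2) :
    (2 : F) ^ (p - 1) = 1 := by
  have := Fact.mk hp
  have h2 : (2 : F) ≠ 0 := by
    intro h
    have := (CharP.cast_eq_zero_iff F p 2).1 (by exact_mod_cast h)
    exact hp2 ((Nat.prime_dvd_prime_iff_eq hp Nat.prime_two).1 this)
  have h1 : (frobenius F p) 2 = 2 := map_ofNat (frobenius F p) 2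
  rw [frobenius_def] at h1
  have h3 : (2 : F) ^ (p - 1) * 2 = 1 * 2 := by
    rw [← pow_succ, Nat.sub_add_cancel hp.one_le, h1, one_mul]
  exact mul_right_cancel₀ h2 h3

section Build

variable {R : Type u} [Group R] [Finite R] [Fact p.Prime] {Ω : Type v} [MulAction R Ω]
  [MulAction.IsPretransitive R Ω]

theorem build {F : Type w} [Field F] [Fintype F] [CharP F p] (a b : Ω) (hab : b ≠ a) (U : Subgroup R)
    (hU1 : U ≠ ⊥) (hUp : IsPGroup p U) (d : MulAction.stabilizer R a →* Fˣ)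
    (hd : ∀ x : MulAction.stabilizer R a, d x = 1 ↔ (x : R) ∈ U) (hle : U ≤ MulAction.stabilizer R a)
    (hfix : ∀ k ∈ U, k ≠ 1 → ∀ x : Ω, k • x = x → x = a)
    (htrans : ∀ x : Ω, x ≠ a → ∃ u ∈ U, u • b = x)
    (h : R) (ha : h • a = a) (hb : h • b = b) (hp : h ^ (p - 1) ∈ U)
    (hfree : ∀ u ∈ U, h * u = u * h → u = 1) (hperf : commutator R = ⊤) :
    ∃ V : Sylow p R, Split p V := by
  classical
  have hpp : p.Prime := Fact.out
  obtain ⟨k₀, hk₀U, hk₀⟩ := Subgroup.ne_bot_iff_exists_ne_one.1 hU1 |>.elim fun x hx =>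
    (⟨x.1, x.2, fun h => hx (Subtype.ext h)⟩ : ∃ k, k ∈ U ∧ k ≠ 1)
  have hnorm : Subgroup.normalizer (U : Set R) = (MulAction.stabilizer R a) := by
    apply le_antisymm
    · intro g hg
      have h1 : g⁻¹ * k₀ * g ∈ U := by
        have := (Subgroup.mem_normalizer_iff.1 (inv_mem hg) k₀).1 hk₀U
        rwa [inv_inv] at this
      have h2 : k₀ • (g • a) = g • a := by
        rw [← mul_smul, show k₀ * g = g * (g⁻¹ * k₀ * g) by group, mul_smul,
          show (g⁻¹ * k₀ * g) • a = a from hle h1]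
      exact hfix k₀ hk₀U hk₀ _ h2
    · have hker : d.ker = U.subgroupOf (MulAction.stabilizer R a) := Subgroup.ext fun x => by
        rw [MonoidHom.mem_ker, hd, Subgroup.mem_subgroupOf]
      haveI : (U.subgroupOf (MulAction.stabilizer R a)).Normal := hker ▸ inferInstance
      exact (Subgroup.normal_subgroupOf_iff_le_normalizer hle).1 inferInstance
  have hΩ : Finite Ω := Finite.of_surjective _ (MulAction.surjective_smul R a)
  have hbij : Function.Bijective (fun u : U => (⟨(u : R) • b, fun hu => hab (by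
      have h2 : b = (u : R)⁻¹ • a := by rw [← hu, inv_smul_smul]
      rw [h2, show (u : R)⁻¹ • a = a from hle (inv_mem u.2)])⟩ : {x : Ω // x ≠ a})) := by
    refine ⟨fun u v huv => ?_, fun x => ?_⟩
    · by_contra hne
      have h1 : ((v : R)⁻¹ * u) • b = b := by
        rw [mul_smul, show (u : R) • b = (v : R) • b from congrArg Subtype.val huv, inv_smul_smul]
      exact hab (hfix _ (U.mul_mem (inv_mem v.2) u.2)
        (fun h1 => hne (Subtype.ext (inv_mul_eq_one.1 h1).symm)) b h1)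
    · obtain ⟨u, hu, hux⟩ := htrans x.1 x.2
      exact ⟨⟨u, hu⟩, Subtype.ext hux⟩
  have hcardΩ : Nat.card Ω = Nat.card U + 1 := by
    haveI := Fintype.ofFinite Ω
    rw [Nat.card_congr (Equiv.ofBijective _ hbij), Nat.card_eq_fintype_card, Nat.card_eq_fintype_card,
      Fintype.card_subtype_compl, Fintype.card_subtype_eq]
    have : 0 < Fintype.card Ω := Fintype.card_pos_iff.2 ⟨a⟩
    omega
  have hidx : ¬ p ∣ U.index := by
    rw [← Subgroup.relIndex_mul_index hle, hpp.dvd_mul]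
    rintro (h1 | h1)
    · have h2 : U.relIndex (MulAction.stabilizer R a) ∣ Nat.card Fˣ := by
        have e : U.relIndex (MulAction.stabilizer R a) = d.ker.index := by
          rw [show d.ker = U.subgroupOf (MulAction.stabilizer R a) from Subgroup.ext fun x => by
            rw [MonoidHom.mem_ker, hd, Subgroup.mem_subgroupOf]]
          rfl
        rw [e, Subgroup.index_ker]
        exact Subgroup.card_subgroup_dvd_card _
      obtain ⟨n, -, hn⟩ := FiniteField.card F p
      have h3 := h1.trans h2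
      rw [Nat.card_units, Nat.card_eq_fintype_card, hn] at h3
      have h4 : p ∣ p ^ (n : ℕ) := dvd_pow_self p n.ne_zero
      have h5 : 1 ≤ p ^ (n : ℕ) := Nat.one_le_pow _ _ hpp.pos
      have h6 := Nat.dvd_sub h4 h3
      rw [Nat.sub_sub_self h5, Nat.dvd_one] at h6
      exact hpp.ne_one h6
    · rw [MulAction.index_stabilizer_of_transitive, hcardΩ] at h1
      have h2 : p ∣ Nat.card U := by
        obtain ⟨n, hn⟩ := IsPGroup.iff_card.1 hUp
        rcases n with _ | n
        · exact absurd (Subgroup.eq_bot_of_card_eq _ (by simpa using hn)) hU1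
        · exact hn ▸ dvd_pow_self p n.succ_ne_zero
      exact hpp.ne_one (Nat.dvd_one.1 ((Nat.dvd_add_right h2).1 h1))
  set P : Sylow p R := hUp.toSylow hidx with hP
  have hPU : (P : Subgroup R) = U := rfl
  have hstab : ∀ g : R, g • P = P ↔ g • a = a := fun g => by
    rw [smul_eq_iff, hPU, hnorm]
    rfl
  obtain ⟨w, hw⟩ := MulAction.exists_smul_eq R a b
  have hwP : ∀ g : R, g • (w • P) = w • P ↔ g • b = b := fun g => by
    rw [← hw, smul_smul, smul_smul, smul_eq_iff_eq_inv_smul, eq_comm (a := (g * w) • a),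
      ← smul_eq_iff_eq_inv_smul, eq_comm, ← inv_smul_eq_iff, smul_smul, hstab, ← inv_smul_eq_iff, smul_smul]
  refine ⟨P, ⟨?_, ?_, hperf⟩⟩
  · obtain ⟨g, hg⟩ := (IsCyclic.exists_generator (α := d.range))
    obtain ⟨g', hg'⟩ := g.2
    refine ⟨g'.1, by rw [hPU, hnorm]; exact g'.2, fun x hx => ?_⟩
    rw [hPU, hnorm] at hx
    obtain ⟨k, hk⟩ := Subgroup.mem_zpowers_iff.1 (hg ⟨_, MonoidHom.mem_range.2 ⟨⟨x, hx⟩, rfl⟩⟩)
    have hk' : (g : Fˣ) ^ k = d ⟨x, hx⟩ := congrArg Subtype.val hk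
    refine ⟨k, ?_⟩
    have h1 : d ((g' ^ k)⁻¹ * ⟨x, hx⟩) = 1 := by rw [map_mul, map_inv, map_zpow, hg', hk', inv_mul_cancel]
    have h2 := (hd _).1 h1
    simpa [hPU] using h2
  · refine ⟨w • P, fun e => hab ?_, fun V hV => ?_, fun u hu he => ?_, h, (hstab h).2 ha, (hwP h).2 hb, hp, hfree⟩
    · rw [← hw]
      exact (hstab w).1 e
    · obtain ⟨x, rfl⟩ := MulAction.exists_smul_eq R P V
      obtain ⟨u, hu, hux⟩ := htrans (x • a) fun e => hV ((hstab x).2 e)
      refine ⟨u, hu, ?_⟩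
      have h1 : ((u * w)⁻¹ * x) • a = a := by
        rw [mul_smul, ← hux, ← hw, inv_smul_eq_iff, mul_smul]
      have h2 := (hstab _).2 h1
      rw [mul_smul, inv_smul_eq_iff] at h2
      rw [h2, smul_smul]
    · by_contra hne
      exact hab (hfix u hu hne b ((hwP u).1 he))

end Build

/-- The same configuration in a quotient by a central subgroup of order prime to `p`. -/
theorem Split.map {R : Type u} {R' : Type v} [Group R] [Group R'] [Finite R] [Finite R'] [Fact p.Prime]
    {U : Sylow p R} (hU : Split p U) (f : R →* R') (hf : Function.Surjective f)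
    (hker : f.ker ≤ Subgroup.center R) (hcard : ¬ p ∣ Nat.card f.ker) :
    ∃ V : Sylow p R', Split p V := by
  have hpp : p.Prime := Fact.out
  let F : Sylow p R → Sylow p R' := fun P => P.mapSurjective hf
  have hsmul : ∀ (g : R) (P : Sylow p R), F (g • P) = f g • F P := fun g P => by
    refine Sylow.ext ?_
    simp only [F, Sylow.coe_mapSurjective, Sylow.coe_subgroup_smul]
    ext y
    simp only [Subgroup.mem_map, Subgroup.mem_pointwise_smul_iff_inv_smul_mem, MulAut.smul_def]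
    constructor
    · rintro ⟨x, hx, rfl⟩
      exact ⟨_, hx, by simp⟩
    · rintro ⟨x, hx, e⟩
      refine ⟨g * x * g⁻¹, by simpa [mul_assoc] using hx, ?_⟩
      simp at e
      simp [e, mul_assoc]
  have hsmall : ∀ k ∈ f.ker, ∀ n : ℕ, k ^ p ^ n = 1 → k = 1 := fun k hk n hn => by
    rw [← orderOf_eq_one_iff]
    have h1 : orderOf k ∣ p ^ n := orderOf_dvd_of_pow_eq_one hn
    have h2 : orderOf k ∣ Nat.card f.ker := by
      rw [← Subgroup.orderOf_mk k hk]; exact orderOf_dvd_natCard _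
    exact Nat.eq_one_of_dvd_coprimes ((hpp.coprime_iff_not_dvd.2 hcard).pow_left n) h1 h2
  have hinj : Function.Injective F := fun A B h => by
    refine Sylow.ext (Subgroup.eq_of_le_of_card_ge (fun x hx => ?_)
      ((Nat.card_congr (A.equiv B).toEquiv).ge))
    have h1 : f x ∈ (F B : Subgroup R') := by rw [← h]; exact ⟨x, hx, rfl⟩
    obtain ⟨y, hy, hyx⟩ := h1
    set k := y⁻¹ * x with hk
    have hkk : k ∈ f.ker := by rw [MonoidHom.mem_ker, hk, map_mul, map_inv, hyx, inv_mul_cancel]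
    obtain ⟨i, hi⟩ := A.2 ⟨x, hx⟩
    obtain ⟨j, hj⟩ := B.2 ⟨y, hy⟩
    have hi' : x ^ p ^ i = 1 := congrArg Subtype.val hi
    have hj' : y ^ p ^ j = 1 := congrArg Subtype.val hj
    have hc : Commute y⁻¹ x := by
      rw [show x = y * k by rw [hk]; group]
      exact (Commute.refl y).inv_left.mul_right (Subgroup.mem_center_iff.1 (hker hkk) _)
    have h2 : k ^ p ^ (i + j) = 1 := by
      rw [hk, hc.mul_pow, pow_add, pow_mul x, hi', one_pow, mul_one, mul_comm, pow_mul y⁻¹, inv_pow, hj',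
        inv_one, one_pow]
    rw [show x = y * k by rw [hk]; group, hsmall k hkk _ h2, mul_one]
    exact hy
  have hnorm : ∀ g : R, f g • F U = F U ↔ g • U = U := fun g => by rw [← hsmul]; exact hinj.eq_iff
  obtain ⟨g, hg, hgen⟩ := hU.cyc
  obtain ⟨U', hne, hcov, hfreeU, h, ha, hb, hp, hfree⟩ := hU.pair
  refine ⟨F U, ⟨f g, ?_, ?_⟩, ⟨F U', hinj.ne hne, ?_, ?_, f h, (hnorm h).2 ha, by rw [← hsmul, hb], ?_, ?_⟩, ?_⟩
  · rw [← smul_eq_iff] at hg ⊢
    exact (hnorm g).2 hg
  · intro y hy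
    obtain ⟨x, rfl⟩ := hf y
    rw [← smul_eq_iff, hnorm, smul_eq_iff] at hy
    obtain ⟨k, hk⟩ := hgen x hy
    exact ⟨k, _, hk, by simp⟩
  · intro V hV
    obtain ⟨y, rfl⟩ := MulAction.exists_smul_eq R' (F U) V
    obtain ⟨x, rfl⟩ := hf y
    rw [← hsmul] at hV ⊢
    obtain ⟨u, hu, e⟩ := hcov (x • U) fun e => hV (congrArg F e)
    exact ⟨f u, ⟨u, hu, rfl⟩, by rw [← hsmul, e]⟩
  · rintro _ ⟨u, hu, rfl⟩ e
    rw [← hsmul] at e
    rw [hfreeU u hu (hinj e), map_one]
  · rw [← map_pow]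
    exact ⟨_, hp, rfl⟩
  · rintro _ ⟨u, hu, rfl⟩ e
    rw [← map_mul, ← map_mul] at e
    have hm : h * u * h⁻¹ ∈ (U : Subgroup R) :=
      (Subgroup.mem_normalizer_iff.1 (smul_eq_iff.1 ha) u).1 hu
    have hk : h * u * h⁻¹ * u⁻¹ ∈ f.ker := by
      rw [MonoidHom.mem_ker, map_mul, map_mul, map_inv, map_inv, e]
      simp
    obtain ⟨j, hj⟩ := U.2 ⟨_, Subgroup.mul_mem _ hm (inv_mem hu)⟩
    have h1 := hsmall _ hk j (congrArg Subtype.val hj)
    rw [mul_inv_eq_one, mul_inv_eq_iff_eq_mul] at h1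
    rw [hfree u hu h1, map_one]
  · rw [commutator_def, ← Subgroup.map_top_of_surjective f hf, ← Subgroup.map_commutator, ← commutator_def,
      hU.perf]

end Cfsg.Lib.RankOneIsolated
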